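import Groth.Agent.Lib.Lattice26.Basic
import Groth.Prelude.Def_Tame
import Mathlib.RingTheory.OrderOfVanishing.Noetherian
import Mathlib.LinearAlgebra.Matrix.Transvection
import Mathlib.LinearAlgebra.Matrix.Basis
import Mathlib.LinearAlgebra.Quotient.Pi

/-! # The distance of a lattice to its image is the order of the determinant -/

universe u

open Submodule

namespace Groth.Agent.Lattice26

variable {A : Type u} [CommRing A] [IsDomain A] [IsNoetherianRing A]
variable {K : Type u} [Field K] [Algebra A K] [IsFractionRing A K]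

theorem ordFrac_mul (hA : ringKrullDim A ≤ 1) {x y : K} (hx : x ≠ 0) (hy : y ≠ 0) :
    CycAlg.ordFrac A K (x * y) = CycAlg.ordFrac A K x + CycAlg.ordFrac A K y := by
  haveI : Ring.KrullDimLE 1 A := Ring.krullDimLE_iff.2 hA
  have h : IsNoetherianRing A ∧ Ring.KrullDimLE 1 A ∧ Nontrivial A ∧ IsFractionRing A K :=
    ⟨inferInstance, inferInstance, inferInstance, inferInstance⟩
  simp only [CycAlg.ordFrac, dif_pos h, map_mul]
  obtain ⟨a, ha⟩ := WithZero.ne_zero_iff_exists.1 ((map_ne_zero (Ring.ordFrac A (K := K))).2 hx)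
  obtain ⟨b, hb⟩ := WithZero.ne_zero_iff_exists.1 ((map_ne_zero (Ring.ordFrac A (K := K))).2 hy)
  rw [← ha, ← hb, ← WithZero.coe_mul]
  rfl

theorem ordFrac_algebraMap (hA : ringKrullDim A ≤ 1) {a : A} (ha : a ≠ 0) :
    CycAlg.ordFrac A K (algebraMap A K a) = ((Module.length A (A ⧸ Ideal.span {a})).toNat : ℤ) ∧
      Module.length A (A ⧸ Ideal.span {a}) < ⊤ := by
  haveI : Ring.KrullDimLE 1 A := Ring.krullDimLE_iff.2 hA
  have h : IsNoetherianRing A ∧ Ring.KrullDimLE 1 A ∧ Nontrivial A ∧ IsFractionRing A K :=
    ⟨inferInstance, inferInstance, inferInstance, inferInstance⟩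
  obtain ⟨m, hm⟩ := ENat.ne_top_iff_exists.1 (Ring.ord_ne_top (R := A) (a := a) (mem_nonZeroDivisors_of_ne_zero ha))
  simp only [CycAlg.ordFrac, dif_pos h]
  rw [Ring.ordFrac_eq_ord A ha, Ring.ordMonoidWithZeroHom_eq_coe _ (mem_nonZeroDivisors_of_ne_zero ha) hm.symm]
  have hm' : Module.length A (A ⧸ Ideal.span {a}) = m := hm.symm
  rw [hm']
  exact ⟨rfl, ENat.coe_lt_top m⟩

variable {V : Type u} [AddCommGroup V] [Module K V] [Module A V] [IsScalarTower A K V]

/-- The distance between two lattices. -/
noncomputable def dist (M N : Submodule A V) : ℤ :=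
  ((Module.length A (↥M ⧸ (M ⊓ N).submoduleOf M)).toNat : ℤ) -
    ((Module.length A (↥N ⧸ (M ⊓ N).submoduleOf N)).toNat : ℤ)

variable (K) in
theorem dist_add (hA : ringKrullDim A ≤ 1) (M₁ M₂ M₃ : Submodule A V) [IsLattice K M₁] [IsLattice K M₂]
    [IsLattice K M₃] : dist M₁ M₃ = dist M₁ M₂ + dist M₂ M₃ := by
  haveI := isLattice_inf K M₁ M₂
  haveI := isLattice_inf K (M₁ ⊓ M₂) M₃
  simp only [dist]
  rw [dist_eq K hA M₁ M₃ (M₁ ⊓ M₂ ⊓ M₃) (inf_le_left.trans inf_le_left) inf_le_right,
    dist_eq K hA M₁ M₂ (M₁ ⊓ M₂ ⊓ M₃) (inf_le_left.trans inf_le_left) (inf_le_left.trans inf_le_right),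
    dist_eq K hA M₂ M₃ (M₁ ⊓ M₂ ⊓ M₃) (inf_le_left.trans inf_le_right) inf_le_right]
  ring

omit [IsDomain A] [IsNoetherianRing A] in
theorem dist_self (M : Submodule A V) : dist M M = 0 := by simp [dist]

omit [IsDomain A] [IsNoetherianRing A] in
theorem length_quotient_map {W : Type*} [AddCommGroup W] [Module A W] (e : W →ₗ[A] V) (he : Function.Injective e)
    (P Q : Submodule A W) :
    Module.length A (↥(P.map e) ⧸ (Q.map e).submoduleOf (P.map e)) = Module.length A (↥P ⧸ Q.submoduleOf P) := by
  refine ((Submodule.Quotient.equiv (Q.submoduleOf P) ((Q.map e).submoduleOf (P.map e))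
    (Submodule.equivMapOfInjective e he P) ?_).length_eq).symm
  ext ⟨y, hy⟩
  constructor
  · rintro ⟨⟨x, hx⟩, hxQ, e'⟩
    exact ⟨x, hxQ, congrArg Subtype.val e'⟩
  · rintro ⟨x, hxQ, rfl⟩
    obtain ⟨x', hx', h⟩ := hy
    obtain rfl := he h
    exact ⟨⟨x', hx'⟩, hxQ, rfl⟩

omit [IsDomain A] [IsNoetherianRing A] in
theorem dist_map (e : V →ₗ[A] V) (he : Function.Injective e) (M N : Submodule A V) :
    dist (M.map e) (N.map e) = dist M N := by
  simp only [dist]
  rw [← Submodule.map_inf e he, length_quotient_map e he, length_quotient_map e he]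

variable [FiniteDimensional K V]

omit [IsDomain A] [IsNoetherianRing A] in
theorem isLattice_map (M : Submodule A V) [IsLattice K M] (f : V →ₗ[K] V) (hf : LinearMap.det f ≠ 0) :
    IsLattice K (M.map (f.restrictScalars A)) where
  fg := (IsLattice.fg (A := K) (M := M)).map _
  span_eq_top := by
    rw [Submodule.map_coe, LinearMap.coe_restrictScalars, ← Submodule.map_span, IsLattice.span_eq_top,
      Submodule.map_top, LinearMap.range_eq_top]
    exact (f.equivOfDetNeZero hf).surjective

/-- `dist M (f M)`. -/
noncomputable def F (M : Submodule A V) (f : V →ₗ[K] V) : ℤ := dist M (M.map (f.restrictScalars A))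

theorem F_comp (hA : ringKrullDim A ≤ 1) (M : Submodule A V) [IsLattice K M] {f g : V →ₗ[K] V}
    (hf : LinearMap.det f ≠ 0) (hg : LinearMap.det g ≠ 0) : F M (f ∘ₗ g) = F M f + F M g := by
  haveI := isLattice_map (A := A) M f hf
  haveI := isLattice_map (A := A) M g hg
  haveI := isLattice_map (A := A) (M.map (g.restrictScalars A)) f hf
  simp only [F]
  rw [show (f ∘ₗ g).restrictScalars A = f.restrictScalars A ∘ₗ g.restrictScalars A from rfl, Submodule.map_comp,
    dist_add K hA M (M.map (f.restrictScalars A)) ((M.map (g.restrictScalars A)).map (f.restrictScalars A)),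
    dist_map (f.restrictScalars A) (f.equivOfDetNeZero hf).injective]

theorem F_indep (hA : ringKrullDim A ≤ 1) (M N : Submodule A V) [IsLattice K M] [IsLattice K N] {f : V →ₗ[K] V}
    (hf : LinearMap.det f ≠ 0) : F M f = F N f := by
  haveI := isLattice_map (A := A) M f hf
  haveI := isLattice_map (A := A) N f hf
  have h1 := dist_add K hA M N (M.map (f.restrictScalars A))
  have h2 := dist_add K hA N (N.map (f.restrictScalars A)) (M.map (f.restrictScalars A))
  rw [dist_map (f.restrictScalars A) (f.equivOfDetNeZero hf).injective] at h2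
  have h3 := dist_add K hA M N M
  rw [dist_self] at h3
  simp only [F]
  omega

variable {I : Type*} [Fintype I] [DecidableEq I]

omit [IsDomain A] [IsNoetherianRing A] [FiniteDimensional K V] [Fintype I] [DecidableEq I] in
theorem isLattice_span [Finite I] (b : Module.Basis I K V) : IsLattice K (span A (Set.range b)) where
  fg := Submodule.fg_span (Set.finite_range b)
  span_eq_top := by
    rw [Submodule.span_span_of_tower, b.span_eq]

theorem F_diag (hA : ringKrullDim A ≤ 1) (b : Module.Basis I K V) (p : I → A) (hp : ∀ i, p i ≠ 0) :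
    F (span A (Set.range b)) (Matrix.toLin b b (Matrix.diagonal fun i => algebraMap A K (p i))) =
      ∑ i, CycAlg.ordFrac A K (algebraMap A K (p i)) := by
  let ι : (I → A) →ₗ[A] V := Fintype.linearCombination A b
  have hι : Function.Injective ι := by
    have h := b.linearIndependent.restrict_scalars (R := A) (by
      intro x y h
      simp only [← algebraMap_smul K x (1 : K), ← algebraMap_smul K y (1 : K), smul_eq_mul, mul_one] at h
      exact IsFractionRing.injective A K (by simpa using h))
    exact linearIndependent_iff_injective_fintypeLinearCombination.1 h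
  have hM : span A (Set.range b) = (⊤ : Submodule A (I → A)).map ι := by
    rw [Submodule.map_top, Fintype.range_linearCombination]
  set f := Matrix.toLin b b (Matrix.diagonal fun i => algebraMap A K (p i))
  let P : Submodule A (I → A) := Submodule.pi Set.univ fun i => (Ideal.span {p i} : Ideal A)
  have hfι : ∀ c, f (ι c) = ι (fun i => p i * c i) := by
    intro c
    simp only [ι, Fintype.linearCombination_apply, map_sum]
    refine Finset.sum_congr rfl fun i _ => ?_
    rw [← algebraMap_smul K (c i), map_smul, Matrix.toLin_self, Finset.sum_eq_single i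
      (fun j _ hj => by rw [Matrix.diagonal_apply_ne _ hj, zero_smul]) (fun h => (h (Finset.mem_univ i)).elim),
      Matrix.diagonal_apply_eq, smul_smul, ← algebraMap_smul K (p i * c i), map_mul, mul_comm]
  have hN : (span A (Set.range b)).map (f.restrictScalars A) = P.map ι := by
    rw [hM]
    ext v
    constructor
    · rintro ⟨_, ⟨c, -, rfl⟩, rfl⟩
      exact ⟨_, fun i _ => Ideal.mem_span_singleton'.2 ⟨c i, mul_comm _ _⟩, (hfι c).symm⟩
    · rintro ⟨c, hc, rfl⟩
      choose d hd using fun i => Ideal.mem_span_singleton'.1 (hc i trivial)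
      exact ⟨ι d, ⟨d, trivial, rfl⟩, (hfι d).trans (congrArg ι (funext fun i => by rw [mul_comm, hd]))⟩
  simp only [F, dist]
  rw [hN, hM, ← Submodule.map_inf ι hι, top_inf_eq, length_quotient_map ι hι, length_quotient_map ι hι]
  have h0 : Module.length A (↥P ⧸ P.submoduleOf P) = 0 := by
    rw [Submodule.submoduleOf_self]; exact Module.length_eq_zero_iff.2 inferInstance
  have h1 : Module.length A (↥(⊤ : Submodule A (I → A)) ⧸ P.submoduleOf ⊤) =
      ∑ i, Module.length A (A ⧸ Ideal.span {p i}) := by
    rw [(Submodule.Quotient.equiv (P.submoduleOf ⊤) P Submodule.topEquiv (by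
      ext x; exact ⟨fun ⟨y, hy, e⟩ => e ▸ hy, fun hx => ⟨⟨x, trivial⟩, hx, rfl⟩⟩)).length_eq,
      (Submodule.quotientPi _).length_eq, Module.length_pi_of_fintype]
  rw [h0, h1]
  simp only [ENat.toNat_zero, Nat.cast_zero, sub_zero, (ordFrac_algebraMap (K := K) hA (hp _)).1]
  rw [← Nat.cast_sum]
  congr 1
  obtain ⟨g, hg⟩ : ∃ g : I → ℕ, ∀ i, Module.length A (A ⧸ Ideal.span {p i}) = g i :=
    ⟨_, fun i => (ENat.coe_toNat (ordFrac_algebraMap (K := K) hA (hp i)).2.ne).symm⟩
  simp only [hg]
  norm_cast

theorem map_span_transvection (b : Module.Basis I K V) {i j : I} (hij : i ≠ j) (p q : A) (hq : algebraMap A K q ≠ 0)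
    (f : V →ₗ[K] V) (hfne : ∀ k, k ≠ j → f (b k) = b k)
    (hfj : f (b j) = b j + (algebraMap A K p / algebraMap A K q) • b i) :
    (span A (Set.range (Function.update b i ((algebraMap A K q)⁻¹ • b i)))).map (f.restrictScalars A) ≤
      span A (Set.range (Function.update b i ((algebraMap A K q)⁻¹ • b i))) := by
  rw [Submodule.map_span, Submodule.span_le]
  rintro _ ⟨_, ⟨k, rfl⟩, rfl⟩
  rw [LinearMap.coe_restrictScalars, SetLike.mem_coe]
  rcases eq_or_ne k i with rfl | hki
  · rw [Function.update_self, map_smul, hfne k hij]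
    exact Submodule.subset_span ⟨k, Function.update_self ..⟩
  · rw [Function.update_of_ne hki]
    rcases eq_or_ne k j with rfl | hkj
    · rw [hfj, div_eq_mul_inv, mul_smul, algebraMap_smul]
      exact add_mem (Submodule.subset_span ⟨k, Function.update_of_ne hki ..⟩)
        (Submodule.smul_mem _ _ (Submodule.subset_span ⟨i, Function.update_self ..⟩))
    · rw [hfne k hkj]
      exact Submodule.subset_span ⟨k, Function.update_of_ne hki ..⟩

theorem F_eq_ord (hA : ringKrullDim A ≤ 1) (M : Submodule A V) [IsLattice K M] (f : V →ₗ[K] V)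
    (hf : LinearMap.det f ≠ 0) : F M f = CycAlg.ordFrac A K (LinearMap.det f) := by
  classical
  let b := Module.finBasis K V
  let M₀ := span A (Set.range b)
  haveI : IsLattice K M₀ := isLattice_span b
  rw [F_indep hA M M₀ hf]
  have hone : CycAlg.ordFrac A K (1 : K) = 0 := by
    have := ordFrac_mul hA (one_ne_zero (α := K)) (one_ne_zero (α := K))
    rw [one_mul] at this
    omega
  have key : ∀ P : Matrix _ _ K, P.det ≠ 0 → F M₀ (Matrix.toLin b b P) = CycAlg.ordFrac A K P.det := by
    intro P hP
    refine Matrix.diagonal_transvection_induction_of_det_ne_zero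
      (fun P => F M₀ (Matrix.toLin b b P) = CycAlg.ordFrac A K P.det) P hP ?_ ?_ ?_
    · intro D hD
      choose p q hq hpq using fun i => IsFractionRing.div_surjective (A := A) (D i)
      have hDi : ∀ i, D i ≠ 0 := fun i h => hD (by
        rw [Matrix.det_diagonal]; exact Finset.prod_eq_zero (Finset.mem_univ i) h)
      have hq' : ∀ i, algebraMap A K (q i) ≠ 0 := fun i =>
        IsFractionRing.to_map_ne_zero_of_mem_nonZeroDivisors (hq i)
      have hp : ∀ i, p i ≠ 0 := fun i h => hDi i (by rw [← hpq, h, map_zero, zero_div])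
      have hp' : ∀ i, algebraMap A K (p i) ≠ 0 := fun i h =>
        hp i ((IsFractionRing.to_map_eq_zero_iff).1 h)
      have hmul : Matrix.toLin b b (Matrix.diagonal D) ∘ₗ Matrix.toLin b b (Matrix.diagonal fun i => algebraMap A K (q i)) =
          Matrix.toLin b b (Matrix.diagonal fun i => algebraMap A K (p i)) := by
        rw [← Matrix.toLin_mul, Matrix.diagonal_mul_diagonal]
        congr 2; funext i
        rw [← hpq, div_mul_cancel₀ _ (hq' i)]
      have h := F_comp hA M₀ (f := Matrix.toLin b b (Matrix.diagonal D))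
        (g := Matrix.toLin b b (Matrix.diagonal fun i => algebraMap A K (q i))) (by rwa [LinearMap.det_toLin])
        (by rw [LinearMap.det_toLin, Matrix.det_diagonal]; exact Finset.prod_ne_zero_iff.2 fun i _ => hq' i)
      rw [hmul, F_diag hA b p hp, F_diag hA b q (fun i h => hq' i (by rw [h, map_zero]))] at h
      have hprod : ∀ (s : Finset (Fin (Module.finrank K V))) (g : Fin (Module.finrank K V) → K), (∀ i ∈ s, g i ≠ 0) →
          CycAlg.ordFrac A K (∏ i ∈ s, g i) = ∑ i ∈ s, CycAlg.ordFrac A K (g i) := by
        intro s g hg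
        induction s using Finset.induction_on with
        | empty => simpa using hone
        | insert a s ha ih =>
          rw [Finset.prod_insert ha, Finset.sum_insert ha, ordFrac_mul hA (hg a (Finset.mem_insert_self _ _))
            (Finset.prod_ne_zero_iff.2 fun i hi => hg i (Finset.mem_insert_of_mem hi)),
            ih fun i hi => hg i (Finset.mem_insert_of_mem hi)]
      have hsplit : ∑ i, CycAlg.ordFrac A K (algebraMap A K (p i)) =
          ∑ i, CycAlg.ordFrac A K (D i) + ∑ i, CycAlg.ordFrac A K (algebraMap A K (q i)) := by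
        rw [← Finset.sum_add_distrib]
        exact Finset.sum_congr rfl fun i _ => by
          rw [← ordFrac_mul hA (hDi i) (hq' i), ← hpq, div_mul_cancel₀ _ (hq' i)]
      rw [Matrix.det_diagonal, hprod _ _ fun i _ => hDi i]
      omega
    · intro t
      obtain ⟨p, q, hq, hpq⟩ := IsFractionRing.div_surjective (A := A) t.c
      have hq' : algebraMap A K q ≠ 0 := IsFractionRing.to_map_ne_zero_of_mem_nonZeroDivisors hq
      have ev : ∀ (s : Matrix.TransvectionStruct _ K), (∀ k, k ≠ s.j → Matrix.toLin b b s.toMatrix (b k) = b k) ∧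
          Matrix.toLin b b s.toMatrix (b s.j) = b s.j + s.c • b s.i := by
        intro s
        constructor
        · intro k hk
          simp [Matrix.TransvectionStruct.toMatrix, Matrix.transvection, map_add, Matrix.toLin_self,
            Matrix.single_apply, Ne.symm hk]
        · simp [Matrix.TransvectionStruct.toMatrix, Matrix.transvection, map_add, Matrix.toLin_self,
            Matrix.single_apply, ite_smul]
      let u : Fin (Module.finrank K V) → Kˣ := Function.update 1 t.i (Units.mk0 _ (inv_ne_zero hq'))
      let b' := b.unitsSMul u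
      have hb' : ⇑b' = Function.update b t.i ((algebraMap A K q)⁻¹ • b t.i) := by
        funext k
        rcases eq_or_ne k t.i with rfl | hk
        · simp [b', u, Module.Basis.unitsSMul_apply, Units.smul_def]
        · simp [b', u, Module.Basis.unitsSMul_apply, Function.update_of_ne hk]
      haveI : IsLattice K (span A (Set.range b')) := isLattice_span b'
      have hdet : LinearMap.det (Matrix.toLin b b t.toMatrix) ≠ 0 := by rw [LinearMap.det_toLin]; simp
      show F M₀ _ = _
      rw [F_indep hA M₀ (span A (Set.range b')) hdet, Matrix.TransvectionStruct.det, hone]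
      simp only [F]
      have le1 := map_span_transvection b t.hij p q hq' _ (ev t).1 (by rw [(ev t).2, hpq])
      have le2 := map_span_transvection b t.hij (-p) q hq' _ (ev t.inv).1 (by
        rw [map_neg, neg_div, hpq]; exact (ev t.inv).2)
      rw [← hb'] at le1 le2
      have : (span A (Set.range b')).map ((Matrix.toLin b b t.toMatrix).restrictScalars A) = span A (Set.range b') := by
        refine le_antisymm le1 fun x hx => ⟨Matrix.toLin b b t.inv.toMatrix x, le2 ⟨x, hx, rfl⟩, ?_⟩
        show Matrix.toLin b b t.toMatrix (Matrix.toLin b b t.inv.toMatrix x) = x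
        rw [← LinearMap.comp_apply, ← Matrix.toLin_mul, Matrix.TransvectionStruct.mul_inv, Matrix.toLin_one,
          LinearMap.id_apply]
      rw [this, dist_self]
    · intro P Q hP hQ iP iQ
      show F M₀ _ = _
      rw [Matrix.toLin_mul b b b, F_comp hA M₀ (by rwa [LinearMap.det_toLin]) (by rwa [LinearMap.det_toLin]), iP, iQ,
        Matrix.det_mul, ordFrac_mul hA hP hQ]
  have := key (LinearMap.toMatrix b b f) (by rwa [LinearMap.det_toMatrix])
  rwa [Matrix.toLin_toMatrix, LinearMap.det_toMatrix] at this

end Groth.Agent.Lattice26
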