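import Groth.Agent.Lib.Lattice26.DetCoker

/-! # The length of the cokernel equals the order of the determinant -/

set_option autoImplicit false
universe u

open CycAlg

namespace Groth.Agent.Lattice26

variable {A : Type u} [CommRing A] {n : ℕ}

theorem injective_mulAct (P : Matrix (Fin n) (Fin n) A) (hP : P.det ∈ nonZeroDivisors A) :
    Function.Injective (mulAct P A) := fun x y h => funext fun i => by
  have h1 := congrArg (mulAct P.adjugate A) h
  rw [(mulAct_det P A x).2, (mulAct_det P A y).2] at h1
  have h2 : P.det * x i = P.det * y i := congrFun h1 i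
  exact (mul_cancel_left_mem_nonZeroDivisors hP).1 h2

/-- The quotient by the range of a matrix doesn't see localization away from the determinant. -/
theorem length_coker_localization (T : Submonoid A) {A' : Type u} [CommRing A'] [Algebra A A'] [IsLocalization T A']
    (P : Matrix (Fin n) (Fin n) A) (hT : ∀ t ∈ T, ∃ a, t = 1 + P.det * a) :
    Module.length A' ((Fin n → A') ⧸ LinearMap.range (mulAct (P.map (algebraMap A A')) A')) =
      Module.length A ((Fin n → A) ⧸ LinearMap.range (mulAct P A)) := by
  set P' := P.map (algebraMap A A') with hP'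
  set R' := LinearMap.range (mulAct P' A')
  let c : (Fin n → A) →ₗ[A] ((Fin n → A') ⧸ R') :=
    ((R'.mkQ).restrictScalars A).comp (LinearMap.pi fun i => (Algebra.linearMap A A').comp (LinearMap.proj i))
  have hcomm : ∀ x : Fin n → A, (fun i => algebraMap A A' (mulAct P A x i)) =
      mulAct P' A' (fun i => algebraMap A A' (x i)) := fun x => funext fun i => by
    simp [mulAct_apply, map_sum, P']
  have hdet : ∀ z : (Fin n → A') ⧸ R', algebraMap A A' P.det • z = 0 := fun z => by
    obtain ⟨z, rfl⟩ := Submodule.Quotient.mk_surjective _ z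
    rw [← Submodule.Quotient.mk_smul, Submodule.Quotient.mk_eq_zero,
      show algebraMap A A' P.det = P'.det from RingHom.map_det _ P]
    exact ⟨_, (mulAct_det P' A' z).1⟩
  have hone : ∀ t ∈ T, ∀ z : (Fin n → A') ⧸ R', algebraMap A A' t • z = z := fun t ht z => by
    obtain ⟨a, rfl⟩ := hT t ht
    rw [map_add, map_one, add_smul, one_smul, map_mul, mul_comm, mul_smul, hdet, smul_zero, add_zero]
  have hsurj : Function.Surjective c := fun z => by
    obtain ⟨z, rfl⟩ := Submodule.Quotient.mk_surjective _ z
    obtain ⟨t, ht⟩ := IsLocalization.exist_integer_multiples_of_finite T z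
    choose x hx using ht
    refine ⟨x, ?_⟩
    show Submodule.Quotient.mk (p := R') (fun i => algebraMap A A' (x i)) = _
    rw [show (fun i => algebraMap A A' (x i)) = algebraMap A A' (t : A) • z from funext fun i =>
      (hx i).trans (Algebra.smul_def _ _), Submodule.Quotient.mk_smul, hone t t.2]
  have hker : LinearMap.ker c = LinearMap.range (mulAct P A) := by
    ext x
    rw [LinearMap.mem_ker]
    show Submodule.Quotient.mk (p := R') (fun i => algebraMap A A' (x i)) = 0 ↔ _
    rw [Submodule.Quotient.mk_eq_zero]
    constructor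
    · rintro ⟨y, hy⟩
      obtain ⟨t, ht⟩ := IsLocalization.exist_integer_multiples_of_finite T y
      choose w hw using ht
      have h1 : (fun i => algebraMap A A' (mulAct P A w i)) = fun i => algebraMap A A' ((t : A) * x i) := by
        rw [hcomm w, show (fun i => algebraMap A A' (w i)) = algebraMap A A' (t : A) • y from funext fun i =>
          (hw i).trans (Algebra.smul_def _ _), map_smul, hy]
        exact funext fun i => (map_mul _ _ _).symm
      choose d hd using fun i => (IsLocalization.eq_iff_exists T A').1 (congrFun h1 i)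
      let D : A := ∏ i, (d i : A)
      have hDT : D ∈ T := Submonoid.prod_mem T fun i _ => (d i).2
      have h2 : (D * (t : A)) • x = mulAct P A (D • w) := by
        rw [map_smul]
        funext i
        obtain ⟨e, he⟩ : (d i : A) ∣ D := Finset.dvd_prod_of_mem (fun i => (d i : A)) (Finset.mem_univ i)
        show D * (t : A) * x i = D * mulAct P A w i
        rw [he, mul_comm (d i : A) e, mul_assoc (e * (d i : A)), mul_assoc, mul_assoc e, hd i]
      obtain ⟨a, ha⟩ := hT _ (T.mul_mem hDT t.2)
      have h3 : x = mulAct P A (D • w) - mulAct P A (mulAct P.adjugate A (a • x)) := by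
        rw [← h2, (mulAct_det P A _).1, ha, add_smul, one_smul, mul_smul, add_sub_cancel_right]
      rw [h3]
      exact Submodule.sub_mem _ ⟨_, rfl⟩ ⟨_, rfl⟩
    · rintro ⟨y, rfl⟩
      exact ⟨_, (hcomm y).symm⟩
  rw [← hker, (c.quotKerEquivOfSurjective hsurj).length_eq]
  let o : Submodule A' ((Fin n → A') ⧸ R') ≃o Submodule A ((Fin n → A') ⧸ R') :=
    { toFun := fun p => p.restrictScalars A
      invFun := fun p => { p with smul_mem' := fun b z hz => by
                                    obtain ⟨⟨a, t⟩, hb⟩ := IsLocalization.surj T b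
                                    have : b • z = algebraMap A A' a • z := by
                                      conv_lhs => rw [← hone t t.2 z]
                                      rw [← mul_smul, hb]
                                    rw [this, algebraMap_smul]
                                    exact p.smul_mem a hz }
      left_inv := fun p => rfl
      right_inv := fun p => rfl
      map_rel_iff' := Iff.rfl }
  exact WithBot.coe_injective (by simp only [Module.coe_length]; exact Order.krullDim_eq_of_orderIso o)

/-- The cokernel of a matrix with nonzerodivisor determinant has the length of `A/(det)`. -/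
theorem length_coker_eq_det [IsNoetherianRing A] (P : Matrix (Fin n) (Fin n) A) (hP : P.det ∈ nonZeroDivisors A) :
    Module.length A ((Fin n → A) ⧸ LinearMap.range (mulAct P A)) = Module.length A (A ⧸ Ideal.span {P.det}) := by
  classical
  let Q : Matrix (Fin 1) (Fin 1) A := Matrix.diagonal fun _ => P.det
  have hQ : Q.det = P.det := by simp [Q]
  have hQlen : Module.length A ((Fin 1 → A) ⧸ LinearMap.range (mulAct Q A)) = Module.length A (A ⧸ Ideal.span {P.det}) := by
    refine (Submodule.Quotient.equiv _ _ (LinearEquiv.funUnique (Fin 1) A A) ?_).length_eq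
    ext a
    constructor
    · rintro ⟨_, ⟨x, rfl⟩, rfl⟩
      exact Ideal.mem_span_singleton'.2 ⟨x 0, by simp [mulAct_apply, Q, mul_comm]⟩
    · intro ha
      obtain ⟨b, rfl⟩ := Ideal.mem_span_singleton'.1 ha
      exact ⟨_, ⟨fun _ => b, rfl⟩, by simp [mulAct_apply, Q, mul_comm]⟩
  by_cases hs : Module.length A (A ⧸ Ideal.span {P.det}) < ⊤
  · let T : Submonoid A := MonoidHom.mker (Ideal.Quotient.mk (Ideal.span {P.det})).toMonoidHom
    have hT : ∀ t ∈ T, ∃ a, t = 1 + P.det * a := fun t ht => by
      have h1 : Ideal.Quotient.mk (Ideal.span {P.det}) t = 1 := ht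
      rw [← map_one (Ideal.Quotient.mk (Ideal.span {P.det})), Ideal.Quotient.eq, Ideal.mem_span_singleton'] at h1
      obtain ⟨a, ha⟩ := h1
      exact ⟨a, by linear_combination -ha⟩
    let A' := Localization T
    haveI : IsNoetherianRing A' := IsLocalization.isNoetherianRing T A' ‹_›
    let P' := P.map (algebraMap A A')
    have hP' : P'.det = algebraMap A A' P.det := (RingHom.map_det _ P).symm
    have e1 := length_coker_localization (A' := A') T P hT
    have e2 := length_coker_localization (A' := A') T Q (by rw [hQ]; exact hT)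
    let Q' : Matrix (Fin 1) (Fin 1) A' := Matrix.diagonal fun _ : Fin 1 => P'.det
    have hQ' : Q.map (algebraMap A A') = Q' := by
      simp [Q, Q', Matrix.diagonal_map, hP']
    rw [hQ', hQlen] at e2
    have hs' : Module.length A' (A' ⧸ Ideal.span {P'.det}) < ⊤ := by
      refine lt_of_le_of_lt ?_ (e2 ▸ hs)
      refine (le_of_eq ((Submodule.Quotient.equiv _ _ (LinearEquiv.funUnique (Fin 1) A' A') ?_).length_eq.symm))
      ext a
      constructor
      · rintro ⟨_, ⟨x, rfl⟩, rfl⟩
        exact Ideal.mem_span_singleton'.2 ⟨x 0, by simp [mulAct_apply, Q', mul_comm]⟩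
      · intro ha
        obtain ⟨b, rfl⟩ := Ideal.mem_span_singleton'.1 ha
        exact ⟨_, ⟨fun _ => b, rfl⟩, by simp [mulAct_apply, Q', mul_comm]⟩
    have hjac : ∀ m : Ideal A', m.IsMaximal → P'.det ∈ m := by
      intro m hm
      by_contra hn
      obtain ⟨c, i, hi, hci⟩ := hm.exists_inv hn
      obtain ⟨⟨a, t⟩, hc⟩ := IsLocalization.surj T c
      have hu : (1 - P.det * a) + P.det * a = 1 := sub_add_cancel _ _
      have ht2 : (t : A) - a * P.det ∈ T := by
        show Ideal.Quotient.mk (Ideal.span {P.det}) ((t : A) - a * P.det) = 1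
        rw [map_sub, Ideal.Quotient.eq_zero_iff_mem.2 (Ideal.mem_span_singleton'.2 ⟨a, rfl⟩), sub_zero]
        exact t.2
      refine hm.ne_top (Ideal.eq_top_of_isUnit_mem _ (Ideal.mul_mem_left _ (algebraMap A A' (t : A)) hi) ?_)
      have heq : algebraMap A A' (t : A) * i = algebraMap A A' ((t : A) - a * P.det) := by
        rw [map_sub, map_mul, ← hP']
        linear_combination algebraMap A A' (t : A) * hci - P'.det * hc
      rw [heq]
      exact IsLocalization.map_units A' ⟨_, ht2⟩
    have hnzd' : P'.det ∈ nonZeroDivisors A' := by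
      rw [hP']; exact IsLocalization.map_nonZeroDivisors_le T A' (Submonoid.mem_map_of_mem _ hP)
    have hQ'det : Q'.det = P'.det := by simp [Q']
    have key := herbrand_eq P' hs' hjac A'
    obtain ⟨k1, l1⟩ := herbrand_of_injective P' A' (injective_mulAct P' hnzd')
    obtain ⟨k2, l2⟩ := herbrand_of_injective Q' A' (injective_mulAct Q' (hQ'det ▸ hnzd'))
    rw [k1, k2, neg_inj, Nat.cast_inj] at key
    rw [← e1, ← e2]
    have f1 := (finCoh_mulAct P' hs' A').2
    have f2 := (finCoh_mulAct Q' (hQ'det.symm ▸ hs') A').2
    rw [l1] at f1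
    rw [l2] at f2
    rw [← ENat.coe_toNat f1.ne, ← ENat.coe_toNat f2.ne, key]
  · rw [not_lt_top_iff.1 hs]
    refine by_contra fun hfin => hs (lt_top_iff_ne_top.2 (Module.length_ne_top_iff.2
      (HilbSam.isFiniteLength_of_support fun J hJ => ?_)))
    rw [Module.support_eq_zeroLocus, Ideal.annihilator_quotient, PrimeSpectrum.mem_zeroLocus] at hJ
    have hsJ : P.det ∈ J.asIdeal := hJ (Ideal.subset_span rfl)
    refine HilbSam.isMaximal_of_mem_support (Module.length_ne_top_iff.1 hfin) ?_
    rw [Module.mem_support_iff_of_finite]
    intro a ha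
    rw [Module.mem_annihilator] at ha
    choose ψ hψ using fun j : Fin n => ((Submodule.Quotient.mk_eq_zero (LinearMap.range (mulAct P A))).1
      ((Submodule.Quotient.mk_smul _ a (Pi.single j (1 : A))).trans (ha _)))
    have hmat : P * Matrix.of (fun i j => ψ j i) = Matrix.diagonal fun _ => a := by
      ext i j
      have := congrFun (hψ j) i
      rw [mulAct_apply] at this
      simpa [Matrix.mul_apply, Matrix.diagonal_apply, Pi.single_apply] using this
    have hdet := congrArg Matrix.det hmat
    rw [Matrix.det_mul, Matrix.det_diagonal, Finset.prod_const] at hdet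
    exact J.2.mem_of_pow_mem _ (hdet ▸ Ideal.mul_mem_right _ _ hsJ)

end Groth.Agent.Lattice26
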