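import Mathlib.Algebra.Module.Lattice
import Mathlib.RingTheory.Length
import Mathlib.RingTheory.KrullDimension.Module
import Mathlib.RingTheory.Localization.Module
import Groth.Agent.Lib.HilbSam.Poly
import Groth.Agent.Lib.Herbrand26.Basic

/-! # Lengths between lattices -/

universe u

open Submodule

namespace Groth.Agent.Lattice26

variable {A : Type u} [CommRing A] [IsDomain A] [IsNoetherianRing A]
variable (K : Type u) [Field K] [Algebra A K] [IsFractionRing A K]
variable {V : Type u} [AddCommGroup V] [Module K V] [Module A V] [IsScalarTower A K V]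

/-- A nonzero multiple of a finitely generated module lies in a lattice. -/
theorem exists_smul_le (M N : Submodule A V) (hM : M.FG) [IsLattice K N] :
    ∃ a : A, a ≠ 0 ∧ ∀ x ∈ M, a • x ∈ N := by
  classical
  obtain ⟨s, rfl⟩ := hM
  have : ∀ x : V, ∃ t : A, t ≠ 0 ∧ t • x ∈ N := fun x => by
    have hx : x ∈ Submodule.span K (N : Set V) := by rw [IsLattice.span_eq_top]; trivial
    induction hx using Submodule.span_induction with
    | mem x hx => exact ⟨1, one_ne_zero, by rwa [one_smul]⟩
    | zero => exact ⟨1, one_ne_zero, by rw [smul_zero]; exact zero_mem N⟩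
    | add x y _ _ hx hy =>
      obtain ⟨t, ht, hx⟩ := hx; obtain ⟨u, hu, hy⟩ := hy
      refine ⟨t * u, mul_ne_zero ht hu, ?_⟩
      rw [smul_add]
      exact add_mem (by rw [mul_comm, mul_smul]; exact N.smul_mem _ hx) (by rw [mul_smul]; exact N.smul_mem _ hy)
    | smul c x _ hx =>
      obtain ⟨t, ht, hx⟩ := hx
      obtain ⟨p, q, hq, rfl⟩ := IsFractionRing.div_surjective (A := A) c
      refine ⟨q * t, mul_ne_zero (nonZeroDivisors.ne_zero hq) ht, ?_⟩
      have hq0 : algebraMap A K q ≠ 0 :=
        IsFractionRing.to_map_ne_zero_of_mem_nonZeroDivisors hq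
      rw [← algebraMap_smul K (q * t), ← mul_smul, map_mul, mul_right_comm, mul_div_cancel₀ _ hq0, mul_smul,
        algebraMap_smul, algebraMap_smul]
      exact N.smul_mem _ hx
  choose t ht hts using this
  refine ⟨∏ x ∈ s, t x, Finset.prod_ne_zero_iff.2 fun x _ => ht x, fun x hx => ?_⟩
  induction hx using Submodule.span_induction with
  | mem x hx =>
    rw [← Finset.prod_erase_mul _ _ (Finset.mem_coe.1 hx), mul_smul]
    exact N.smul_mem _ (hts x)
  | zero => rw [smul_zero]; exact zero_mem N
  | add x y _ _ hx hy => rw [smul_add]; exact add_mem hx hy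
  | smul c x _ hx => rw [smul_comm]; exact N.smul_mem _ hx

/-- The intersection of two lattices is a lattice. -/
theorem isLattice_inf (M N : Submodule A V) [IsLattice K M] [IsLattice K N] : IsLattice K (M ⊓ N) where
  fg := IsNoetherian.noetherian (R := A) (M := M) ((M ⊓ N).submoduleOf M) |>.map M.subtype |>
    fun h => by
      rwa [Submodule.submoduleOf, Submodule.map_comap_subtype, ← inf_assoc, inf_idem] at h
  span_eq_top := by
    obtain ⟨a, ha, h⟩ := exists_smul_le K M N IsLattice.fg
    refine top_unique ?_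
    rw [← IsLattice.span_eq_top (A := K) (M := M), Submodule.span_le]
    intro x hx
    have hmem : a • x ∈ M ⊓ N := ⟨M.smul_mem _ hx, h x hx⟩
    have ha0 : algebraMap A K a ≠ 0 := by
      rw [Ne, IsFractionRing.to_map_eq_zero_iff]; exact ha
    rw [SetLike.mem_coe, ← Submodule.smul_mem_iff _ ha0, algebraMap_smul]
    exact Submodule.subset_span hmem

theorem quotient_length_lt_top (hA : ringKrullDim A ≤ 1) (M N : Submodule A V) [IsLattice K M] [IsLattice K N] :
    Module.length A (↥M ⧸ N.submoduleOf M) < ⊤ := by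
  obtain ⟨a, ha, h⟩ := exists_smul_le K M N IsLattice.fg
  refine lt_top_iff_ne_top.2 (Module.length_ne_top_iff.2 (HilbSam.isFiniteLength_of_support fun p hp => ?_))
  have hap : a ∈ p.asIdeal := by
    rw [Module.support_eq_zeroLocus, PrimeSpectrum.mem_zeroLocus] at hp
    refine hp (Module.mem_annihilator.2 fun z => ?_)
    obtain ⟨⟨x, hx⟩, rfl⟩ := Submodule.Quotient.mk_surjective _ z
    exact (Submodule.Quotient.mk_eq_zero _).2 (h x hx)
  haveI : Ring.KrullDimLE 1 A := Ring.krullDimLE_iff.2 hA
  exact Ring.krullDimLE_one_iff_of_noZeroDivisors.1 ‹_› p.asIdeal (fun h0 => ha (by rw [h0] at hap; exact hap)) p.isPrime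

omit [IsDomain A] [IsNoetherianRing A] in
theorem quotient_length_add {L N M : Submodule A V} (h₁ : L ≤ N) (h₂ : N ≤ M) :
    Module.length A (↥M ⧸ L.submoduleOf M) =
      Module.length A (↥N ⧸ L.submoduleOf N) + Module.length A (↥M ⧸ N.submoduleOf M) := by
  let f : (↥N ⧸ L.submoduleOf N) →ₗ[A] (↥M ⧸ L.submoduleOf M) :=
    Submodule.mapQ _ _ (Submodule.inclusion h₂) fun x hx => hx
  let g : (↥M ⧸ L.submoduleOf M) →ₗ[A] (↥M ⧸ N.submoduleOf M) := Submodule.factor fun x hx => h₁ hx
  refine Module.length_eq_add_of_exact f g ?_ (Submodule.factor_surjective _) ?_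
  · intro a b e
    obtain ⟨a, rfl⟩ := Submodule.Quotient.mk_surjective _ a
    obtain ⟨b, rfl⟩ := Submodule.Quotient.mk_surjective _ b
    rw [Submodule.mapQ_apply, Submodule.mapQ_apply, Submodule.Quotient.eq] at e
    exact (Submodule.Quotient.eq _).2 e
  · intro z
    obtain ⟨⟨x, hx⟩, rfl⟩ := Submodule.Quotient.mk_surjective _ z
    constructor
    · intro h
      exact ⟨Submodule.Quotient.mk ⟨x, (Submodule.Quotient.mk_eq_zero (N.submoduleOf M)).1
        (h : Submodule.Quotient.mk (p := N.submoduleOf M) ⟨x, hx⟩ = 0)⟩, rfl⟩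
    · rintro ⟨w, hw⟩
      obtain ⟨⟨y, hy⟩, rfl⟩ := Submodule.Quotient.mk_surjective _ w
      rw [← hw]
      exact (Submodule.Quotient.mk_eq_zero _).2 hy

/-- Distance via a common sublattice. -/
theorem dist_eq (hA : ringKrullDim A ≤ 1) (M N L : Submodule A V) [IsLattice K M] [IsLattice K N] [IsLattice K L]
    (hM : L ≤ M) (hN : L ≤ N) :
    ((Module.length A (↥M ⧸ (M ⊓ N).submoduleOf M)).toNat : ℤ) -
        ((Module.length A (↥N ⧸ (M ⊓ N).submoduleOf N)).toNat : ℤ) =
      ((Module.length A (↥M ⧸ L.submoduleOf M)).toNat : ℤ) -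
        ((Module.length A (↥N ⧸ L.submoduleOf N)).toNat : ℤ) := by
  haveI := isLattice_inf K M N
  rw [quotient_length_add (le_inf hM hN) inf_le_left, quotient_length_add (le_inf hM hN) inf_le_right,
    ENat.toNat_add (quotient_length_lt_top K hA _ _).ne (quotient_length_lt_top K hA _ _).ne,
    ENat.toNat_add (quotient_length_lt_top K hA _ _).ne (quotient_length_lt_top K hA _ _).ne]
  push_cast
  ring

end Groth.Agent.Lattice26
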