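import Groth.Agent.Lib.Lattice26.Det
import Groth.Agent.Lib.Herbrand26.DimOne
import Mathlib.LinearAlgebra.Matrix.Adjugate
import Mathlib.RingTheory.Localization.Ideal
import Mathlib.RingTheory.Ideal.KrullsHeightTheorem

/-! # Length of the cokernel of a matrix and order of its determinant -/

set_option autoImplicit false
universe u

open CycAlg

namespace Groth.Agent.Lattice26

variable {A : Type u} [CommRing A] {n : ℕ}

/-- A matrix acting on tuples of elements of a module. -/
noncomputable def mulAct (P : Matrix (Fin n) (Fin n) A) (M : Type u) [AddCommGroup M] [Module A M] :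
    (Fin n → M) →ₗ[A] (Fin n → M) where
  toFun x i := ∑ j, P i j • x j
  map_add' x y := funext fun i => by simp [smul_add, Finset.sum_add_distrib]
  map_smul' r x := funext fun i => by simp [Finset.smul_sum, smul_comm r]

theorem mulAct_apply (P : Matrix (Fin n) (Fin n) A) (M : Type u) [AddCommGroup M] [Module A M] (x : Fin n → M)
    (i : Fin n) : mulAct P M x i = ∑ j, P i j • x j := rfl

theorem mulAct_mulAct (P Q : Matrix (Fin n) (Fin n) A) (M : Type u) [AddCommGroup M] [Module A M] (x : Fin n → M) :
    mulAct P M (mulAct Q M x) = mulAct (P * Q) M x := by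
  funext i
  simp only [mulAct_apply, Matrix.mul_apply, Finset.smul_sum, smul_smul, Finset.sum_smul]
  exact Finset.sum_comm

theorem mulAct_det (P : Matrix (Fin n) (Fin n) A) (M : Type u) [AddCommGroup M] [Module A M] (x : Fin n → M) :
    mulAct P M (mulAct P.adjugate M x) = P.det • x ∧ mulAct P.adjugate M (mulAct P M x) = P.det • x := by
  constructor <;>
  · rw [mulAct_mulAct]
    simp only [Matrix.mul_adjugate, Matrix.adjugate_mul]
    funext i
    simp [mulAct_apply, Matrix.one_apply, ite_smul]

theorem mulAct_natural (P : Matrix (Fin n) (Fin n) A) {M N : Type u} [AddCommGroup M] [Module A M] [AddCommGroup N]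
    [Module A N] (f : M →ₗ[A] N) (x : Fin n → M) : mulAct P N (fun j => f (x j)) = fun i => f (mulAct P M x i) := by
  funext i
  simp [mulAct_apply, map_sum]

theorem isMaximal_of_mem [IsNoetherianRing A] {s : A} (hs : Module.length A (A ⧸ Ideal.span {s}) < ⊤)
    (J : Ideal A) [J.IsPrime] (hsJ : s ∈ J) : J.IsMaximal := by
  haveI := (isFiniteLength_iff_isNoetherian_isArtinian.1 (Module.length_ne_top_iff.1 hs.ne)).2
  haveI : IsArtinianRing (A ⧸ Ideal.span {s}) := isArtinian_of_tower A inferInstance
  have hker : RingHom.ker (Ideal.Quotient.mk (Ideal.span {s})) ≤ J := by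
    rw [Ideal.mk_ker, Ideal.span_singleton_le_iff_mem]; exact hsJ
  haveI : (J.map (Ideal.Quotient.mk (Ideal.span {s}))).IsPrime :=
    Ideal.map_isPrime_of_surjective Ideal.Quotient.mk_surjective hker
  haveI := IsArtinianRing.isMaximal_of_isPrime (J.map (Ideal.Quotient.mk (Ideal.span {s})))
  have h1 := Ideal.comap_isMaximal_of_surjective (Ideal.Quotient.mk (Ideal.span {s}))
    Ideal.Quotient.mk_surjective (K := J.map (Ideal.Quotient.mk (Ideal.span {s})))
  rwa [Ideal.comap_map_of_surjective _ Ideal.Quotient.mk_surjective, ← RingHom.ker_eq_comap_bot,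
    sup_eq_left.2 hker] at h1

theorem isFiniteLength_of_smul_eq_zero [IsNoetherianRing A] {s : A} (hs : Module.length A (A ⧸ Ideal.span {s}) < ⊤)
    (Q : Type u) [AddCommGroup Q] [Module A Q] [Module.Finite A Q] (h : ∀ z : Q, s • z = 0) :
    Module.length A Q < ⊤ := by
  refine lt_top_iff_ne_top.2 (Module.length_ne_top_iff.2 (HilbSam.isFiniteLength_of_support fun p hp => ?_))
  have hsp : s ∈ p.asIdeal := by
    rw [Module.support_eq_zeroLocus, PrimeSpectrum.mem_zeroLocus] at hp
    exact hp (Module.mem_annihilator.2 h)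
  exact isMaximal_of_mem hs p.asIdeal hsp

/-- The domain case. -/
theorem length_coker_domain {D : Type u} [CommRing D] [IsDomain D] [IsNoetherianRing D] (hD : ringKrullDim D ≤ 1)
    (P : Matrix (Fin n) (Fin n) D) (hP : P.det ≠ 0) :
    Module.length D ((Fin n → D) ⧸ LinearMap.range (mulAct P D)) = Module.length D (D ⧸ Ideal.span {P.det}) := by
  classical
  let K := FractionRing D
  let ι : (Fin n → D) →ₗ[D] (Fin n → K) := LinearMap.pi fun i => (Algebra.linearMap D K).comp (LinearMap.proj i)
  have hι : Function.Injective ι := fun x y h => funext fun i => IsFractionRing.injective D K (congrFun h i)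
  have hι' : ∀ i, ι (Pi.single i 1) = Pi.single i 1 := fun i => funext fun j => by
    by_cases h : j = i <;> simp [ι, Pi.single_apply, h]
  let f : (Fin n → K) →ₗ[K] (Fin n → K) := Matrix.toLin' (P.map (algebraMap D K))
  have hf : LinearMap.det f = algebraMap D K P.det := by
    rw [LinearMap.det_toLin']; exact (RingHom.map_det _ P).symm
  have hf0 : LinearMap.det f ≠ 0 := by
    rw [hf]; exact fun h => hP (IsFractionRing.to_map_eq_zero_iff.1 h)
  let M := LinearMap.range ι
  haveI : Submodule.IsLattice K M :=
    { fg := Submodule.fg_range ι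
      span_eq_top := by
        refine top_unique ?_
        rw [← (Pi.basisFun K (Fin n)).span_eq, Submodule.span_le]
        rintro _ ⟨i, rfl⟩
        rw [Pi.basisFun_apply]
        exact Submodule.subset_span ⟨Pi.single i 1, hι' i⟩ }
  haveI := isLattice_map (A := D) M f hf0
  have hcomm : ∀ x, f (ι x) = ι (mulAct P D x) := fun x => by
    funext i
    simp [f, ι, Matrix.toLin'_apply, Matrix.mulVec, dotProduct, mulAct_apply, map_sum]
  have hmap : M.map (f.restrictScalars D) = (LinearMap.range (mulAct P D)).map ι := by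
    ext y
    constructor
    · rintro ⟨_, ⟨x, rfl⟩, rfl⟩
      exact ⟨_, ⟨x, rfl⟩, (hcomm x).symm⟩
    · rintro ⟨_, ⟨x, rfl⟩, rfl⟩
      exact ⟨ι x, ⟨x, rfl⟩, hcomm x⟩
  have hle : M.map (f.restrictScalars D) ≤ M := by
    rw [hmap]; exact LinearMap.map_le_range
  have key := F_eq_ord hD M f hf0
  have hlt := quotient_length_lt_top K hD M (M.map (f.restrictScalars D))
  have hlen : Module.length D (↥M ⧸ (M.map (f.restrictScalars D)).submoduleOf M) =
      Module.length D ((Fin n → D) ⧸ LinearMap.range (mulAct P D)) := by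
    have hM : M = (⊤ : Submodule D (Fin n → D)).map ι := (Submodule.map_top ι).symm
    rw [hmap, hM, length_quotient_map ι hι]
    exact (Submodule.Quotient.equiv _ _ Submodule.topEquiv (by
      ext x; exact ⟨fun ⟨y, hy, e⟩ => e ▸ hy, fun hx => ⟨⟨x, trivial⟩, hx, rfl⟩⟩)).length_eq
  rw [hlen] at hlt
  obtain ⟨h1, h2⟩ := ordFrac_algebraMap (K := K) hD hP
  rw [hf, h1] at key
  simp only [F, dist] at key
  rw [inf_eq_right.2 hle, hlen, Submodule.submoduleOf_self] at key
  have h0 : Module.length D (↥(M.map (f.restrictScalars D)) ⧸ (⊤ : Submodule D ↥(M.map (f.restrictScalars D)))) = 0 :=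
    Module.length_eq_zero
  rw [h0, ENat.toNat_zero, Nat.cast_zero, sub_zero, Nat.cast_inj] at key
  rw [← ENat.coe_toNat hlt.ne, ← ENat.coe_toNat h2.ne, key]

variable [IsNoetherianRing A]

theorem finCoh_mulAct (P : Matrix (Fin n) (Fin n) A) (hs : Module.length A (A ⧸ Ideal.span {P.det}) < ⊤)
    (M : Type u) [AddCommGroup M] [Module A M] [Module.Finite A M] :
    FinCoh A (mulAct P M) (0 : (Fin n → M) →ₗ[A] (Fin n → M)) := by
  haveI : IsNoetherian A (Fin n → M) := isNoetherian_of_isNoetherianRing_of_finite A _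
  constructor
  · refine isFiniteLength_of_smul_eq_zero hs _ fun z => ?_
    obtain ⟨x, hx, rfl⟩ := Herbrand26.mk_surjective z
    have h : P.det • x = 0 := by rw [← (mulAct_det P M x).2, hx, map_zero]
    refine (Submodule.Quotient.mk_eq_zero _).2 (Submodule.mem_comap.2 ?_)
    show P.det • x ∈ LinearMap.range (0 : (Fin n → M) →ₗ[A] (Fin n → M))
    rw [h]
    exact Submodule.zero_mem _
  · refine isFiniteLength_of_smul_eq_zero hs _ fun z => ?_
    obtain ⟨x, hx, rfl⟩ := Herbrand26.mk_surjective z
    exact (Submodule.Quotient.mk_eq_zero _).2 (Submodule.mem_comap.2 ⟨_, (mulAct_det P M x).1⟩)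

theorem isPeriodic_zero (P : Matrix (Fin n) (Fin n) A) (M : Type u) [AddCommGroup M] [Module A M] :
    IsPeriodic (mulAct P M) (0 : (Fin n → M) →ₗ[A] (Fin n → M)) :=
  ⟨LinearMap.comp_zero _, LinearMap.zero_comp _⟩

omit [IsNoetherianRing A] in
theorem herbrand_of_injective (P : Matrix (Fin n) (Fin n) A) (M : Type u) [AddCommGroup M] [Module A M]
    (h : Function.Injective (mulAct P M)) :
    herbrand A (mulAct P M) (0 : (Fin n → M) →ₗ[A] (Fin n → M)) =
      -((Module.length A ((Fin n → M) ⧸ LinearMap.range (mulAct P M))).toNat : ℤ) ∧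
    Module.length A (perH (0 : (Fin n → M) →ₗ[A] (Fin n → M)) (mulAct P M)) =
      Module.length A ((Fin n → M) ⧸ LinearMap.range (mulAct P M)) := by
  haveI : Subsingleton (perH (mulAct P M) (0 : (Fin n → M) →ₗ[A] (Fin n → M))) := by
    refine ⟨fun a b => ?_⟩
    obtain ⟨x, hx, rfl⟩ := Herbrand26.mk_surjective a
    obtain ⟨y, hy, rfl⟩ := Herbrand26.mk_surjective b
    obtain rfl : x = y := h (hx.trans hy.symm)
    rfl
  have e : Module.length A (perH (0 : (Fin n → M) →ₗ[A] (Fin n → M)) (mulAct P M)) =
      Module.length A ((Fin n → M) ⧸ LinearMap.range (mulAct P M)) := by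
    refine (Submodule.Quotient.equiv _ _ ((LinearEquiv.ofEq _ _ LinearMap.ker_zero).trans Submodule.topEquiv) ?_).length_eq
    ext x
    exact ⟨fun ⟨y, hy, e⟩ => e ▸ hy, fun hx => ⟨⟨x, rfl⟩, hx, rfl⟩⟩
  refine ⟨?_, e⟩
  unfold CycAlg.herbrand
  rw [e, Module.length_eq_zero]
  simp

/-- Herbrand quotient of a matrix equals that of its determinant. -/
theorem herbrand_eq (P : Matrix (Fin n) (Fin n) A) (hs : Module.length A (A ⧸ Ideal.span {P.det}) < ⊤)
    (hjac : ∀ m : Ideal A, m.IsMaximal → P.det ∈ m)
    (M : Type u) [AddCommGroup M] [Module A M] [Module.Finite A M] :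
    herbrand A (mulAct P M) (0 : (Fin n → M) →ₗ[A] (Fin n → M)) =
      herbrand A (mulAct (Matrix.diagonal fun _ : Fin 1 => P.det) M) (0 : (Fin 1 → M) →ₗ[A] (Fin 1 → M)) := by
  set Q : Matrix (Fin 1) (Fin 1) A := Matrix.diagonal fun _ : Fin 1 => P.det with hQ
  have hsQ : Module.length A (A ⧸ Ideal.span {Q.det}) < ⊤ := by
    rw [show Q.det = P.det by simp [Q]]; exact hs
  rename' M => M₀
  suffices H : ∀ (N : Type u) [AddCommGroup N] [Module A N] [Module.Finite A N],
      herbrand A (mulAct P N) (0 : (Fin n → N) →ₗ[A] (Fin n → N)) =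
        herbrand A (mulAct Q N) (0 : (Fin 1 → N) →ₗ[A] (Fin 1 → N)) from H M₀
  intro N _ _ i
  induction i using IsNoetherianRing.induction_on_isQuotientEquivQuotientPrime A with
  | subsingleton N =>
    have h0 : ∀ m : ℕ, Module.length A (Fin m → N) = 0 := fun m => Module.length_eq_zero
    rw [(Herbrand26.finCoh_of_finite (isPeriodic_zero P N) (by rw [h0]; exact ENat.coe_lt_top 0)
        (by rw [h0]; exact ENat.coe_lt_top 0)).2,
      (Herbrand26.finCoh_of_finite (isPeriodic_zero Q N) (by rw [h0]; exact ENat.coe_lt_top 0)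
        (by rw [h0]; exact ENat.coe_lt_top 0)).2]
    simp
  | quotient N p e =>
    by_cases hp : P.det ∈ p.asIdeal
    · have hN : Module.length A N < ⊤ := isFiniteLength_of_smul_eq_zero hs N fun z => e.injective (by
        rw [map_smul, map_zero]
        obtain ⟨r, hr⟩ := Ideal.Quotient.mk_surjective (e z)
        rw [← hr, Algebra.smul_def, Ideal.Quotient.algebraMap_eq, ← map_mul, Ideal.Quotient.eq_zero_iff_mem]
        exact Ideal.mul_mem_right _ _ hp)
      have hpi : ∀ m : ℕ, Module.length A (Fin m → N) < ⊤ := fun m => by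
        haveI := (isFiniteLength_iff_isNoetherian_isArtinian.1 (Module.length_ne_top_iff.1 hN.ne)).1
        haveI := (isFiniteLength_iff_isNoetherian_isArtinian.1 (Module.length_ne_top_iff.1 hN.ne)).2
        exact lt_top_iff_ne_top.2 (Module.length_ne_top)
      rw [(Herbrand26.finCoh_of_finite (isPeriodic_zero P N) (hpi n) (hpi n)).2,
        (Herbrand26.finCoh_of_finite (isPeriodic_zero Q N) (hpi 1) (hpi 1)).2, sub_self, sub_self]
    · let D := A ⧸ p.asIdeal
      have hdim : ringKrullDim D ≤ 1 := by
        refine Ring.krullDimLE_iff.1 (Ring.krullDimLE_one_iff_of_noZeroDivisors.2 fun I hI0 hI => ?_)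
        obtain ⟨m, hm, hIm⟩ := I.exists_le_maximal hI.ne_top
        rcases eq_or_ne I m with rfl | hne
        · exact hm
        exfalso
        have hsm : Ideal.Quotient.mk p.asIdeal P.det ∈ m :=
          hjac _ (Ideal.comap_isMaximal_of_surjective (Ideal.Quotient.mk p.asIdeal) Ideal.Quotient.mk_surjective (K := m))
        have hmin : m ∈ (Ideal.span {Ideal.Quotient.mk p.asIdeal P.det}).minimalPrimes := by
          refine ⟨⟨hm.isPrime, (Ideal.span_singleton_le_iff_mem _).2 hsm⟩, fun J ⟨hJ, hsJ⟩ _ => ?_⟩
          let J' := J.comap (Ideal.Quotient.mk p.asIdeal)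
          haveI : J'.IsPrime := Ideal.IsPrime.comap _
          have h1 := isMaximal_of_mem hs J' (hsJ (Ideal.subset_span rfl))
          have h2 : J.IsMaximal := by
            have := Ideal.map_eq_top_or_isMaximal_of_surjective (Ideal.Quotient.mk p.asIdeal)
              Ideal.Quotient.mk_surjective h1
            rw [Ideal.map_comap_of_surjective _ Ideal.Quotient.mk_surjective] at this
            exact this.resolve_left hJ.ne_top
          exact (h2.eq_of_le hm.ne_top (by assumption)).ge
        have hh := Ideal.height_le_one_of_isPrincipal_of_mem_minimalPrimes _ _ hmin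
        haveI := hm.isPrime
        haveI := hI
        have hlt : (⊥ : Ideal D) < I := bot_lt_iff_ne_bot.2 hI0
        have hlt' : I < m := lt_of_le_of_ne hIm hne
        have h1 := Ideal.height_add_one_le_of_lt_of_isPrime hlt
        have h2 := Ideal.height_add_one_le_of_lt_of_isPrime hlt'
        rw [Ideal.height_bot, zero_add] at h1
        have h3 : (2 : ℕ∞) ≤ 1 := calc (2 : ℕ∞) = 1 + 1 := (one_add_one_eq_two).symm
          _ ≤ I.height + 1 := by gcongr
          _ ≤ m.height := h2
          _ ≤ 1 := hh
        exact absurd h3 (by decide)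
      let Pd : Matrix (Fin n) (Fin n) D := P.map (Ideal.Quotient.mk p.asIdeal)
      have key : ∀ (m : ℕ) (R : Matrix (Fin m) (Fin m) A), R.det = P.det →
          herbrand A (mulAct R N) (0 : (Fin m → N) →ₗ[A] (Fin m → N)) =
            -((Module.length D (D ⧸ Ideal.span {Ideal.Quotient.mk p.asIdeal P.det})).toNat : ℤ) := by
        intro m R hR
        let Rd : Matrix (Fin m) (Fin m) D := R.map (Ideal.Quotient.mk p.asIdeal)
        have hRd : Rd.det = Ideal.Quotient.mk p.asIdeal P.det := by rw [← hR]; exact (RingHom.map_det _ R).symm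
        have hcomm : ∀ x : Fin m → D, mulAct R D x = mulAct Rd D x := fun x => funext fun i => by
          simp only [mulAct_apply]
          exact Finset.sum_congr rfl fun j _ => rfl
        have hinjN : Function.Injective (mulAct R N) := fun x y h => funext fun j => by
          have h1 := congrArg (mulAct R.adjugate N) h
          rw [(mulAct_det R N x).2, (mulAct_det R N y).2] at h1
          have h2 := congrArg e (congrFun h1 j)
          rw [Pi.smul_apply, Pi.smul_apply, map_smul, map_smul, Algebra.smul_def, Algebra.smul_def,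
            Ideal.Quotient.algebraMap_eq, hR] at h2
          exact e.injective (mul_left_cancel₀ (fun h0 => hp (Ideal.Quotient.eq_zero_iff_mem.1 h0)) h2)
        rw [(herbrand_of_injective R N hinjN).1]
        let E : (Fin m → N) ≃ₗ[A] (Fin m → D) := LinearEquiv.piCongrRight fun _ => e
        have hE : Submodule.map (E : (Fin m → N) →ₗ[A] (Fin m → D)) (LinearMap.range (mulAct R N)) =
            (LinearMap.range (mulAct Rd D)).restrictScalars A := by
          ext y
          constructor
          · rintro ⟨_, ⟨x, rfl⟩, rfl⟩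
            exact ⟨E x, (hcomm _).symm.trans (mulAct_natural R e.toLinearMap x)⟩
          · rintro ⟨x, rfl⟩
            exact ⟨_, ⟨E.symm x, rfl⟩, (mulAct_natural R e.toLinearMap (E.symm x)).symm.trans
              ((congrArg (mulAct R D) (E.apply_symm_apply x)).trans (hcomm x))⟩
        rw [(Submodule.Quotient.equiv _ _ E hE).length_eq, (Submodule.Quotient.restrictScalarsEquiv A _).length_eq,
          Module.length_eq_of_surjective (S := A) (R := D) Ideal.Quotient.mk_surjective,
          length_coker_domain hdim Rd (by rw [hRd]; exact fun h0 => hp (Ideal.Quotient.eq_zero_iff_mem.1 h0)), hRd]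
      rw [key n P rfl, key 1 Q (by simp [Q])]
  | exact N₁ N₂ N₃ f g hf hg hfg ih1 ih3 =>
    have add : ∀ (m : ℕ) (R : Matrix (Fin m) (Fin m) A), Module.length A (A ⧸ Ideal.span {R.det}) < ⊤ →
        herbrand A (mulAct R N₂) (0 : (Fin m → N₂) →ₗ[A] (Fin m → N₂)) =
          herbrand A (mulAct R N₁) (0 : (Fin m → N₁) →ₗ[A] (Fin m → N₁)) +
          herbrand A (mulAct R N₃) (0 : (Fin m → N₃) →ₗ[A] (Fin m → N₃)) := by
      intro m R hR
      have cf : mulAct R N₂ ∘ₗ f.compLeft (Fin m) = f.compLeft (Fin m) ∘ₗ mulAct R N₁ :=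
        LinearMap.ext fun x => mulAct_natural R f x
      have cg : mulAct R N₃ ∘ₗ g.compLeft (Fin m) = g.compLeft (Fin m) ∘ₗ mulAct R N₂ :=
        LinearMap.ext fun x => mulAct_natural R g x
      have hr : LinearMap.range (f.compLeft (Fin m)) = LinearMap.ker (g.compLeft (Fin m)) := by
        ext x
        constructor
        · rintro ⟨y, rfl⟩
          exact funext fun i => hfg.apply_apply_eq_zero (y i)
        · intro hx
          choose y hy using fun i => (hfg (x i)).1 (congrFun hx i)
          exact ⟨y, funext hy⟩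
      exact (Herbrand26.shortExact (isPeriodic_zero R N₂) cf (by simp) cg (by simp) (fun x y h => funext fun i => hf (congrFun h i))
        (fun x y h => funext fun i => hf (congrFun h i)) hg.comp_left hg.comp_left hr hr
        (Or.inl ⟨finCoh_mulAct R hR N₁, finCoh_mulAct R hR N₂⟩)).2.2.2
    rw [add n P hs, add 1 Q hsQ, ih1, ih3]

end Groth.Agent.Lattice26
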