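import Groth.Agent.Lib.Lattice26.DetCokerGlobal
import Mathlib.RingTheory.OrderOfVanishing.Noetherian
import Mathlib.LinearAlgebra.Quotient.Pi

/-! # Cokernels of semilinear maps over a DVR -/

set_option autoImplicit false
universe u v

namespace Groth.Agent.Lattice26

theorem det_dvd_pow {A : Type u} [CommRing A] {n : ℕ} (P : Matrix (Fin n) (Fin n) A) {a : A}
    (ha : a ∈ Module.annihilator A ((Fin n → A) ⧸ LinearMap.range (mulAct P A))) : P.det ∣ a ^ n := by
  classical
  rw [Module.mem_annihilator] at ha
  choose ψ hψ using fun j : Fin n => ((Submodule.Quotient.mk_eq_zero (LinearMap.range (mulAct P A))).1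
    ((Submodule.Quotient.mk_smul _ a (Pi.single j (1 : A))).trans (ha _)))
  have hmat : P * Matrix.of (fun i j => ψ j i) = Matrix.diagonal fun _ => a := by
    ext i j
    have := congrFun (hψ j) i
    rw [mulAct_apply] at this
    simpa [Matrix.mul_apply, Matrix.diagonal_apply, Pi.single_apply] using this
  have hdet := congrArg Matrix.det hmat
  rw [Matrix.det_mul, Matrix.det_diagonal, Finset.prod_const, Finset.card_univ, Fintype.card_fin] at hdet
  exact ⟨_, hdet.symm⟩

theorem length_coker_dvr {B : Type u} [CommRing B] [IsDomain B] [IsDiscreteValuationRing B] {n : ℕ}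
    (P : Matrix (Fin n) (Fin n) B) :
    Module.length B ((Fin n → B) ⧸ LinearMap.range (mulAct P B)) = IsDiscreteValuationRing.addVal B P.det := by
  by_cases h : P.det = 0
  · rw [h, IsDiscreteValuationRing.addVal_zero]
    by_contra hfin
    by_cases hb : (⟨⊥, Ideal.isPrime_bot⟩ : PrimeSpectrum B) ∈ Module.support B ((Fin n → B) ⧸ LinearMap.range (mulAct P B))
    · have hmax := HilbSam.isMaximal_of_mem_support (Module.length_ne_top_iff.1 hfin) hb
      exact IsDiscreteValuationRing.not_isField B (Ring.isField_iff_maximal_bot.2 hmax)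
    · rw [Module.mem_support_iff_of_finite, SetLike.le_def, not_forall] at hb
      obtain ⟨a, hb⟩ := hb
      rw [Classical.not_imp] at hb
      have := det_dvd_pow P hb.1
      rw [h, zero_dvd_iff] at this
      exact hb.2 (eq_zero_of_pow_eq_zero this)
  · rw [← Ring.ord_eq_addVal]
    exact length_coker_eq_det P (mem_nonZeroDivisors_of_ne_zero h)

theorem length_coker_semilinear {B : Type u} [CommRing B] [IsDomain B] [IsDiscreteValuationRing B] (ω : B ≃+* B)
    {r : ℕ} {M N : Type v} [AddCommGroup M] [Module B M] [AddCommGroup N] [Module B N]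
    (bM : Module.Basis (Fin r) B M) (bN : Module.Basis (Fin r) B N) (χ : M →+ N)
    (hχ : ∀ (b : B) (x : M), χ (b • x) = ω b • χ x) :
    Module.length B (N ⧸ Submodule.span B (Set.range χ)) =
      IsDiscreteValuationRing.addVal B (Matrix.det (Matrix.of fun a c => bN.repr (χ (bM c)) a)) := by
  set P : Matrix (Fin r) (Fin r) B := Matrix.of fun a c => bN.repr (χ (bM c)) a
  rw [← length_coker_dvr P]
  have hcol : ∀ x : Fin r → B, bN.equivFun.symm (mulAct P B x) = ∑ c, x c • χ (bM c) := by
    intro x
    apply bN.equivFun.injective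
    rw [LinearEquiv.apply_symm_apply, map_sum]
    funext a
    simp [mulAct_apply, P, mul_comm]
  refine (Submodule.Quotient.equiv (Submodule.span B (Set.range χ)) (LinearMap.range (mulAct P B)) bN.equivFun ?_).length_eq
  refine le_antisymm ?_ ?_
  · rw [Submodule.map_le_iff_le_comap, Submodule.span_le]
    rintro _ ⟨x, rfl⟩
    refine ⟨fun c => ω (bM.repr x c), bN.equivFun.symm.injective ?_⟩
    rw [hcol]
    refine Eq.trans ?_ (bN.equivFun.symm_apply_apply _).symm
    conv_rhs => rw [← bM.sum_repr x, map_sum]
    exact Finset.sum_congr rfl fun c _ => (hχ _ _).symm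
  · rintro _ ⟨x, rfl⟩
    refine ⟨bN.equivFun.symm (mulAct P B x), ?_, LinearEquiv.apply_symm_apply _ _⟩
    rw [hcol]
    exact Submodule.sum_mem _ fun c _ => Submodule.smul_mem _ _ (Submodule.subset_span ⟨_, rfl⟩)

theorem length_coker_pi_semilinear {B : Type u} [CommRing B] [IsDomain B] [IsDiscreteValuationRing B] (ω : B ≃+* B)
    {n : ℕ} (r : Fin n → ℕ) (M N : Fin n → Type v) [∀ i, AddCommGroup (M i)] [∀ i, Module B (M i)]
    [∀ i, AddCommGroup (N i)] [∀ i, Module B (N i)]
    (bM : ∀ i, Module.Basis (Fin (r i)) B (M i)) (bN : ∀ i, Module.Basis (Fin (r i)) B (N i))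
    (χ : ∀ i, M i →+ N i) (hχ : ∀ i (b : B) (x : M i), χ i (b • x) = ω b • χ i x) :
    Module.length B ((∀ i, N i) ⧸ Submodule.span B (Set.range (fun (x : ∀ i, M i) (i : Fin n) => χ i (x i)))) =
      IsDiscreteValuationRing.addVal B (∏ i, Matrix.det
        (Matrix.of fun (a c : Fin (r i)) => (bN i).repr (χ i (bM i c)) a)) := by
  classical
  have hspan : Submodule.span B (Set.range (fun (x : ∀ i, M i) (i : Fin n) => χ i (x i))) =
      Submodule.pi Set.univ fun i => Submodule.span B (Set.range (χ i)) := by
    refine le_antisymm (Submodule.span_le.2 ?_) fun x hx => ?_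
    · rintro _ ⟨x, rfl⟩
      exact fun i _ => Submodule.subset_span ⟨x i, rfl⟩
    · rw [← Finset.univ_sum_single x]
      refine Submodule.sum_mem _ fun i _ => ?_
      have hi : x i ∈ Submodule.span B (Set.range (χ i)) := hx i trivial
      have := Submodule.mem_map_of_mem (f := LinearMap.single B N i) hi
      rw [Submodule.map_span] at this
      refine Submodule.span_mono ?_ this
      rintro _ ⟨_, ⟨y, rfl⟩, rfl⟩
      refine ⟨Pi.single i y, funext fun j => ?_⟩
      rw [LinearMap.coe_single]
      rcases eq_or_ne j i with rfl | h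
      · simp
      · simp [Pi.single_eq_of_ne h]
  rw [hspan, (Submodule.quotientPi fun i => Submodule.span B (Set.range (χ i))).length_eq,
    Module.length_pi_of_fintype, map_prod_addVal]
  exact Finset.sum_congr rfl fun i _ => length_coker_semilinear ω (bM i) (bN i) (χ i) (hχ i)
where
  map_prod_addVal {ι : Type} {s : Finset ι} {f : ι → B} :
      IsDiscreteValuationRing.addVal B (∏ i ∈ s, f i) = ∑ i ∈ s, IsDiscreteValuationRing.addVal B (f i) := by
    classical
    induction s using Finset.induction_on with
    | empty => simp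
    | insert a s ha ih => rw [Finset.prod_insert ha, Finset.sum_insert ha, IsDiscreteValuationRing.addVal_mul, ih]

end Groth.Agent.Lattice26
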